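import Cfsg.Agent.Mrg.Omega.EH3.MTwentyTwo.ExitJ4
import Cfsg.Agent.Mrg.Omega.EH3.Main


/-!
# EH3: the row `M₂₂` in `G` (helper893): the socket `m22` of `EH3.Main.Inputs`
-/

set_option autoImplicit false

namespace Cfsg.Agent.Omega.EH3.MTwentyTwo.RowG

open Subgroup Cfsg Cfsg.Agent.Omega.EH3.Main
open Cfsg.Agent.Omega.Frame (Ctx Cls All)

universe u

/-- **the row `M₂₂`**: `G` is `J₄`. -/
theorem isoJ4 {G : Type u} [Group G] [Finite G] {Q A : Subgroup G} {z a : G} {w : ℕ} (S : Sit Q A z a w)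
    (L : Subgroup S.pair.H) (hLn : L.Normal) (hLq : IsQuasisimple L) (hLo : Odd (Nat.card (center L)))
    (hX : S.X ⊓ centralizer (L : Set S.pair.H) = ⊥) (hK : Spor.IsoM22 (L ⧸ center L)) : Spor.IsoJ4 G := by
  have hG : IsSimpleGroup G := S.ctx.simple
  exact ExitJ4.isoJ4_of_quotient S.pair S.cfg L (commutator_eq_top hLq) hLo hX hK

/-- the socket of `EH3.Main` -/
theorem rowG : RowG All.{u} (fun X _ w => Spor.IsoM22 X ∧ w = 6) := by
  intro G _ _ _ Q A z a w S L hLn hLq hLo hX hP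
  have h := isoJ4 S L hLn hLq hLo hX hP.1
  unfold IsKnownSimple' IsSporadicGroup
  tauto

end Cfsg.Agent.Omega.EH3.MTwentyTwo.RowG
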